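import Groth.Agent.EtSectLib.Main

/-! Étale quasi-sections through specializations in the fibres of a smooth morphism in characteristic zero. -/

set_option autoImplicit false
universe u
open CategoryTheory CategoryTheory.Limits AlgebraicGeometry TensorProduct

namespace NeronWeakLib

/-- Over a base of characteristic zero every point has a specialization in its fibre lying on an étale quasi-section. -/
theorem exists_section_specializes {k : Type u} [Field k] [CharZero k] {X S : Scheme.{u}}
    (σ₀ : S ⟶ Spec (CommRingCat.of k)) (f : X ⟶ S) [Smooth f] (z : X) :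
    ∃ (y : X) (S' : Scheme.{u}) (g : S' ⟶ S) (h : S' ⟶ X) (s' : S'),
      z ⤳ y ∧ Etale g ∧ h ≫ f = g ∧ h s' = y := by
  obtain ⟨R, T, n, jY, η, θ, hjY, hη, ⟨t, ht⟩, heq, P, e, he⟩ :=
    AlgSpLib.exists_etale_polynomial_chart f z
  have hθe : θ.hom.Etale := by
    have h : θ.hom = e.toRingHom.comp (algebraMap (AlgSpLib.poly n R) P.Ring) :=
      RingHom.ext fun r => (he r).symm
    rw [h]
    exact RingHom.Etale.stableUnderComposition _ _ (RingHom.etale_algebraMap.2 inferInstance)
      (RingHom.Etale.of_bijective e.bijective)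
  have : Etale (Spec.map θ) := (HasRingHomProperty.Spec_iff (P := @Etale)).2 hθe
  let ι : R →+* T := θ.hom.comp MvPolynomial.C
  letI : Algebra R T := ι.toAlgebra
  haveI : Algebra.FiniteType R T := by
    refine RingHom.finiteType_algebraMap.1 ?_
    have h1 : (MvPolynomial.C : R →+* MvPolynomial (Fin n) R).FiniteType :=
      RingHom.finiteType_algebraMap.2 (inferInstance : Algebra.FiniteType R (MvPolynomial (Fin n) R))
    exact RingHom.FiniteType.comp ((HasRingHomProperty.Spec_iff (P := @LocallyOfFiniteType)).1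
      (inferInstance : LocallyOfFiniteType (Spec.map θ))) h1
  let p : Ideal R := t.asIdeal.comap ι
  haveI : p.IsPrime := Ideal.IsPrime.comap ι
  let κ := p.ResidueField
  let L := t.asIdeal.ResidueField
  let ψ : κ ⊗[R] T →ₐ[R] L :=
    Algebra.TensorProduct.lift (Ideal.ResidueField.mapₐ p t.asIdeal (Algebra.ofId R T) rfl) (IsScalarTower.toAlgHom R T L) fun _ _ => Commute.all _ _
  have hker : RingHom.ker ψ.toRingHom ≠ ⊤ := RingHom.ker_ne_top _
  obtain ⟨m, hm, hle⟩ := Ideal.exists_le_maximal _ hker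
  letI := hm
  letI : Field (κ ⊗[R] T ⧸ m) := Ideal.Quotient.field m
  haveI : Module.Finite κ (κ ⊗[R] T ⧸ m) := by
    haveI : Algebra.FiniteType κ (κ ⊗[R] T) := inferInstance
    haveI : Algebra.FiniteType κ (κ ⊗[R] T ⧸ m) :=
      .of_surjective (Ideal.Quotient.mkₐ κ m) Ideal.Quotient.mk_surjective
    exact finite_of_finite_type_of_isJacobsonRing κ _
  haveI : CharZero κ := charZero_of_injective_ringHom
    ((algebraMap R κ).comp (Spec.preimage (jY ≫ σ₀)).hom).injective
  haveI : Algebra.IsAlgebraic κ (κ ⊗[R] T ⧸ m) := Algebra.IsAlgebraic.of_finite κ _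
  haveI : Algebra.IsSeparable κ (κ ⊗[R] T ⧸ m) := Algebra.IsAlgebraic.isSeparable_of_perfectField
  let φT : T →ₐ[R] κ ⊗[R] T ⧸ m :=
    (Ideal.Quotient.mkₐ R m).comp Algebra.TensorProduct.includeRight
  have hκ : ∀ z : κ, ∃ a b : R, algebraMap R κ b ≠ 0 ∧ z * algebraMap R κ b = algebraMap R κ a := fun z => by
    obtain ⟨⟨a, b⟩, hab⟩ := IsLocalization.surj (nonZeroDivisors (R ⧸ p)) z
    obtain ⟨a, rfl⟩ := Ideal.Quotient.mk_surjective a
    obtain ⟨b', hb'⟩ := Ideal.Quotient.mk_surjective (b : R ⧸ p)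
    refine ⟨a, b', fun h => nonZeroDivisors.ne_zero b.2 ?_, ?_⟩
    · rw [← hb', Ideal.Quotient.eq_zero_iff_mem, ← Ideal.algebraMap_residueField_eq_zero]
      exact h
    · rw [← Ideal.algebraMap_quotient_residueField_mk, ← Ideal.algebraMap_quotient_residueField_mk, hb']
      exact hab
  obtain ⟨R₂, _, _, φ, x, het, hx⟩ :=
    EtSectLib.exists_etale_point hκ (fun i => φT (θ.hom (MvPolynomial.X i)))
  let σ : MvPolynomial (Fin n) R →ₐ[R] R₂ := MvPolynomial.aeval x
  let θA : MvPolynomial (Fin n) R →ₐ[R] T := { θ.hom with commutes' := fun r => rfl }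
  have hcomp : φ.comp σ = φT.comp θA := by
    refine MvPolynomial.algHom_ext fun i => ?_
    show φ (σ (MvPolynomial.X i)) = φT (θ.hom (MvPolynomial.X i))
    rw [show σ (MvPolynomial.X i) = x i from MvPolynomial.aeval_X x i, hx]
  let t' : Spec T := ⟨RingHom.ker φT.toRingHom, RingHom.ker_isPrime _⟩
  let q : Spec (CommRingCat.of R₂) := ⟨RingHom.ker φ.toRingHom, RingHom.ker_isPrime _⟩
  let σ' : AlgSpLib.poly n R ⟶ CommRingCat.of R₂ := CommRingCat.ofHom σ.toRingHom
  have hpt : Spec.map θ t' = Spec.map σ' q := by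
    refine PrimeSpectrum.ext ?_
    show (RingHom.ker φT.toRingHom).comap θ.hom = (RingHom.ker φ.toRingHom).comap σ.toRingHom
    rw [RingHom.comap_ker, RingHom.comap_ker]
    exact congrArg RingHom.ker (congrArg AlgHom.toRingHom hcomp).symm
  obtain ⟨s', hs', -⟩ := Scheme.Pullback.exists_preimage_pullback t' q hpt
  have hspec : t ⤳ t' := by
    refine (PrimeSpectrum.le_iff_specializes t t').1 fun a ha => ?_
    show φT a = 0
    refine Ideal.Quotient.eq_zero_iff_mem.2 (hle ?_)
    show ψ ((1 : κ) ⊗ₜ[R] a) = 0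
    rw [Algebra.TensorProduct.lift_tmul, map_one, one_mul]
    exact Ideal.algebraMap_residueField_eq_zero.2 ha
  let γ : Spec (CommRingCat.of R₂) ⟶ Spec R := Spec.map (CommRingCat.ofHom (algebraMap R R₂))
  have : Etale γ := (HasRingHomProperty.Spec_iff (P := @Etale)).2 (RingHom.etale_algebraMap.2 het)
  refine ⟨η t', pullback (Spec.map θ) (Spec.map σ'), pullback.snd _ _ ≫ γ ≫ jY, pullback.fst _ _ ≫ η, s',
    ?_, inferInstance, ?_, ?_⟩
  · rw [← ht]; exact hspec.map η.continuous
  · rw [Category.assoc, heq, pullback.condition_assoc, ← Spec.map_comp_assoc]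
    refine congrArg (fun a => pullback.snd (Spec.map θ) (Spec.map σ') ≫ a ≫ jY) (congrArg Spec.map ?_)
    exact CommRingCat.hom_ext σ.comp_algebraMap
  · rw [Scheme.Hom.comp_apply, hs']

end NeronWeakLib
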